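import Mathlib.RingTheory.Unramified.Field
import Mathlib.FieldTheory.PurelyInseparable.Basic
import Mathlib.FieldTheory.KummerPolynomial
import Mathlib.FieldTheory.IntermediateField.Adjoin.Basic
import Mathlib.RingTheory.Kaehler.Basic
import Mathlib.Order.Zorn
import Mathlib.RingTheory.IntegralClosure.IntegrallyClosed
import Mathlib.RingTheory.Localization.FractionRing

/-!
In a field of characteristic `p` the kernel of `d` is the subfield of `p`-th powers.
-/

universe u

open Polynomial IntermediateField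

set_option linter.style.haveILetI false

namespace GrothLib.KerDField

theorem finrank_adjoin_eq {L K : Type u} [Field L] [Field K] [Algebra L K] (p : ℕ) [Fact p.Prime] [CharP K p]
    {z : K} (hz : z ∉ Set.range (algebraMap L K)) {a : L} (ha : algebraMap L K a = z ^ p) :
    Module.finrank L L⟮z⟯ = p := by
  have hirr : Irreducible (X ^ p - C a) := X_pow_sub_C_irreducible_of_prime Fact.out fun b hb => hz ⟨b, by
    refine frobenius_inj K p ?_
    simp only [frobenius_def, ← map_pow, hb, ha]⟩
  have hroot : aeval z (X ^ p - C a) = 0 := by simp [ha]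
  have hmon : (X ^ p - C a).Monic := monic_X_pow_sub_C a (Fact.out : p.Prime).ne_zero
  rw [adjoin.finrank ⟨_, hmon, hroot⟩, ← minpoly.eq_of_irreducible_of_monic hirr hroot hmon, natDegree_X_pow_sub_C]

/-- An element of a field of characteristic `p` with zero differential is a `p`-th power. -/
theorem exists_pow_eq {K : Type u} [Field K] (p : ℕ) [Fact p.Prime] [CharP K p] (x : K)
    (hx : KaehlerDifferential.D ℤ K x = 0) : ∃ y, y ^ p = x := by
  by_contra hne
  let P : Set (Subfield K) := {L | (frobenius K p).fieldRange ≤ L ∧ x ∉ L}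
  have hP : (frobenius K p).fieldRange ∈ P :=
    ⟨le_rfl, fun h => hne (by obtain ⟨y, hy⟩ := h; exact ⟨y, hy⟩)⟩
  obtain ⟨L, -, hL⟩ := zorn_le_nonempty₀ P (fun c hc hch y hy => by
    refine ⟨sSup c, ⟨(hc hy).1.trans (le_sSup hy), fun h => ?_⟩, fun z hz => le_sSup hz⟩
    obtain ⟨z, hz, hxz⟩ := (Subfield.mem_sSup_of_directedOn ⟨y, hy⟩ hch.directedOn).1 h
    exact (hc hz).2 hxz) _ hP
  have hpow : ∀ y : K, ∃ a : L, algebraMap L K a = y ^ p := fun y => ⟨⟨y ^ p, hL.prop.1 ⟨y, rfl⟩⟩, rfl⟩
  have hxL : x ∉ Set.range (algebraMap L K) := by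
    rintro ⟨a, rfl⟩
    exact hL.prop.2 a.2
  have hfin : ∀ y : K, IsIntegral L y := fun y => by
    obtain ⟨a, ha⟩ := hpow y
    exact ⟨X ^ p - C a, monic_X_pow_sub_C a (Fact.out : p.Prime).ne_zero,
      by rw [← aeval_def]; simp [ha]⟩
  have htop : L⟮x⟯ = ⊤ := by
    refine eq_top_iff.2 fun y _ => ?_
    by_cases hy : y ∈ Set.range (algebraMap L K)
    · obtain ⟨a, rfl⟩ := hy
      exact IntermediateField.algebraMap_mem _ a
    · have hxy : x ∈ L⟮y⟯ := by
        by_contra h
        have h1 : L⟮y⟯.toSubfield ∈ P := ⟨fun z hz => IntermediateField.algebraMap_mem _ (⟨z, hL.prop.1 hz⟩ : L), h⟩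
        exact hy ⟨⟨y, hL.2 h1 (fun z hz => IntermediateField.algebraMap_mem _ (⟨z, hz⟩ : L))
          (mem_adjoin_simple_self L y)⟩, rfl⟩
      haveI : FiniteDimensional L L⟮y⟯ := adjoin.finiteDimensional (hfin y)
      obtain ⟨a, ha⟩ := hpow x
      obtain ⟨b, hb⟩ := hpow y
      rw [IntermediateField.eq_of_le_of_finrank_eq (adjoin_simple_le_iff.2 hxy)
        ((finrank_adjoin_eq p hxL ha).trans (finrank_adjoin_eq p hy hb).symm)]
      exact mem_adjoin_simple_self L y
  have hadj : Algebra.adjoin L ({x} : Set K) = ⊤ := Algebra.adjoin_eq_top_of_primitive_element (hfin x).isAlgebraic htop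
  haveI : Algebra.FiniteType L K := ⟨⟨{x}, by simpa using hadj⟩⟩
  haveI : Algebra.FormallyUnramified L K := by
    refine ⟨subsingleton_of_forall_eq 0 fun w => ?_⟩
    have hDx : KaehlerDifferential.D L K x = 0 := by
      have h1 := Derivation.liftKaehlerDifferential_comp_D ((KaehlerDifferential.D L K).restrictScalars ℤ) x
      rw [hx, map_zero] at h1
      exact h1.symm
    have hw : w ∈ Submodule.span K (Set.range (KaehlerDifferential.D L K)) := by
      rw [KaehlerDifferential.span_range_derivation]; trivial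
    refine (Submodule.mem_bot K).1 ((Submodule.span_le.2 ?_) hw)
    rintro _ ⟨z, rfl⟩
    obtain ⟨g, rfl⟩ : ∃ g : L[X], aeval x g = z := by
      have hz : z ∈ Algebra.adjoin L ({x} : Set K) := hadj ▸ Algebra.mem_top
      rwa [Algebra.adjoin_singleton_eq_range_aeval] at hz
    simp [Derivation.map_aeval, hDx]
  haveI : CharP L p := (algebraMap L K).charP (algebraMap L K).injective p
  haveI : IsPurelyInseparable L K := by
    rw [isPurelyInseparable_iff_pow_mem L p]
    exact fun y => ⟨1, by obtain ⟨a, ha⟩ := hpow y; exact ⟨a, by rw [pow_one]; exact ha⟩⟩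
  have h := Algebra.FormallyUnramified.range_eq_top_of_isPurelyInseparable L K
  refine hxL ?_
  have hx' : x ∈ (⊤ : Subring K) := trivial
  rw [← h] at hx'
  exact hx'

theorem exists_pow_eq_of_isFractionRing {A K : Type u} [CommRing A] [IsDomain A] [IsIntegrallyClosed A] [Field K]
    [Algebra A K] [IsFractionRing A K] (p : ℕ) [Fact p.Prime] [CharP A p] (s : A)
    (hs : KaehlerDifferential.D ℤ A s = 0) : ∃ f : A, f ^ p = s := by
  haveI : CharP K p := charP_of_injective_algebraMap (IsFractionRing.injective A K) p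
  have hd : KaehlerDifferential.D ℤ K (algebraMap A K s) = 0 := by
    rw [← KaehlerDifferential.map_D ℤ ℤ A K, hs, map_zero]
  obtain ⟨y, hy⟩ := exists_pow_eq p _ hd
  have hint : IsIntegral A y := IsIntegral.of_pow (Fact.out : p.Prime).pos (hy ▸ isIntegral_algebraMap)
  obtain ⟨f, rfl⟩ := IsIntegrallyClosed.isIntegral_iff.1 hint
  exact ⟨f, IsFractionRing.injective A K (by rw [map_pow, hy])⟩

/-- An element of a normal domain of characteristic `p` with zero differential is a `p`-th power. -/
theorem exists_pow_eq_of_normal {A : Type u} [CommRing A] [IsDomain A] [IsIntegrallyClosed A] (p : ℕ)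
    [Fact p.Prime] [CharP A p] (s : A) (hs : KaehlerDifferential.D ℤ A s = 0) : ∃ f : A, f ^ p = s :=
  exists_pow_eq_of_isFractionRing (K := FractionRing A) p s hs

end GrothLib.KerDField
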